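import Cfsg.Agent.Lib.helper7.TP.Defs
import Cfsg.Agent.Lib.Helper28.Transport

/-! # Project TP, piece MEET, part A: basic facts on `B`-transvections and `B`-lines -/

set_option autoImplicit false

namespace Cfsg.Agent.Lib.helper7.TP

open Matrix
open scoped Kronecker

variable {a b : ℕ} {F : Type*} [Field F]

/-- `u ↦ u ⊗ w` as a linear map. -/
def tpmeet_tenL (w : Fin b → F) : (Fin a → F) →ₗ[F] (Fin a × Fin b → F) where
  toFun u := ten u w
  map_add' u u' := ten_add_left u u' w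
  map_smul' c u := ten_smul_left c u w

theorem tpmeet_tenL_apply (w : Fin b → F) (u : Fin a → F) : tpmeet_tenL w u = ten u w := rfl

theorem tpmeet_range_tenL (w : Fin b → F) : LinearMap.range (tpmeet_tenL (a := a) w) = Bline w := by
  ext v
  constructor
  · rintro ⟨u, rfl⟩
    exact ⟨u, rfl⟩
  · rintro ⟨u, rfl⟩
    exact ⟨u, rfl⟩

theorem tpmeet_ten_inj (w : Fin b → F) (hw : w ≠ 0) (u : Fin a → F) (h : ten u w = 0) : u = 0 := by
  obtain ⟨j, hj⟩ : ∃ j, w j ≠ 0 := by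
    by_contra hcon
    push Not at hcon
    exact hw (funext hcon)
  funext i
  have := congrFun h (i, j)
  simp only [ten, Pi.zero_apply, mul_eq_zero] at this
  rcases this with h1 | h1
  · exact h1
  · exact absurd h1 hj

theorem tpmeet_tenL_injective (w : Fin b → F) (hw : w ≠ 0) :
    Function.Injective (tpmeet_tenL (a := a) w) := by
  rw [← LinearMap.ker_eq_bot, LinearMap.ker_eq_bot']
  intro u hu
  exact tpmeet_ten_inj w hw u hu

theorem tpmeet_finrank_Bline (w : Fin b → F) (hw : w ≠ 0) :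
    Module.finrank F (Bline (a := a) w) = a := by
  rw [← tpmeet_range_tenL, LinearMap.finrank_range_of_inj (tpmeet_tenL_injective w hw)]
  simp

/-- `ctr ψ` as a linear map. -/
def tpmeet_ctrL (ψ : Fin b → F) : (Fin a × Fin b → F) →ₗ[F] (Fin a → F) where
  toFun v := ctr ψ v
  map_add' v v' := ctr_add ψ v v'
  map_smul' c v := ctr_smul ψ c v

theorem tpmeet_ctr_zero (ψ : Fin b → F) : ctr (a := a) ψ 0 = 0 := (tpmeet_ctrL ψ).map_zero

theorem tpmeet_ctr_sub (ψ : Fin b → F) (v v' : Fin a × Fin b → F) :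
    ctr ψ (v - v') = ctr ψ v - ctr ψ v' := (tpmeet_ctrL ψ).map_sub v v'

theorem tpmeet_ten_zero (w : Fin b → F) : ten (0 : Fin a → F) w = 0 := (tpmeet_tenL w).map_zero

/-- `ELm 1 w ψ = 1 ⊗ (1 + w ψᵀ)`. -/
theorem tpmeet_ELm_one (w ψ : Fin b → F) :
    ELm (1 : Matrix (Fin a) (Fin a) F) w ψ =
      (1 : Matrix (Fin a) (Fin a) F) ⊗ₖ (1 + Matrix.vecMulVec w ψ) := by
  rw [ELm, Matrix.kronecker_add, Matrix.one_kronecker_one]

theorem tpmeet_det_tv (w ψ : Fin b → F) (h : ψ ⬝ᵥ w = 0) :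
    (1 + Matrix.vecMulVec w ψ).det = 1 := by
  rw [Matrix.vecMulVec_eq Unit, Matrix.det_one_add_replicateCol_mul_replicateRow, h, add_zero]

/-- a `B`-transvection lies in `T0`. -/
theorem tpmeet_EL_one_mem_T0 (w ψ : Fin b → F) (h : ψ ⬝ᵥ w = 0) :
    EL (1 : Matrix (Fin a) (Fin a) F) w ψ h ∈ T0 a b F := by
  have hdet := tpmeet_det_tv w ψ h
  refine Subgroup.mem_inf.mpr ⟨?_, ?_⟩
  · refine ⟨1, Matrix.GeneralLinearGroup.mkOfDetNeZero (1 + Matrix.vecMulVec w ψ)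
      (by rw [hdet]; exact one_ne_zero), ?_⟩
    rw [EL_coe, tpmeet_ELm_one]
    rfl
  · rw [Cfsg.Agent.Lib.Helper28.Transport.mem_SL_iff, EL_coe, tpmeet_ELm_one, Matrix.det_kronecker,
      hdet, Matrix.det_one, one_pow, one_pow, one_mul]

/-- powers of `EL`. -/
theorem tpmeet_EL_pow (ζ : Matrix (Fin a) (Fin a) F) (w ψ : Fin b → F) (h : ψ ⬝ᵥ w = 0) (k : ℕ) :
    (EL ζ w ψ h) ^ k = EL (k • ζ) w ψ h := by
  induction k with
  | zero =>
    apply Units.ext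
    rw [pow_zero, EL_coe, zero_smul, ELm_zero]
    rfl
  | succ k ih =>
    apply Units.ext
    rw [pow_succ, ih, Units.val_mul, EL_coe, EL_coe, EL_coe, ELm_mul_ELm _ _ _ _ h, succ_nsmul]

theorem tpmeet_EL_pow_char (p : ℕ) [CharP F p] (ζ : Matrix (Fin a) (Fin a) F) (w ψ : Fin b → F)
    (h : ψ ⬝ᵥ w = 0) : (EL ζ w ψ h) ^ p = 1 := by
  rw [tpmeet_EL_pow]
  apply Units.ext
  have : (p • ζ) = 0 := by
    ext i j
    simp [Matrix.smul_apply]
  rw [EL_coe, this, ELm_zero]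
  rfl

/-- a non-zero covector killing a given non-zero vector (`b ≥ 2`). -/
theorem tpmeet_exists_perp (hb : 2 ≤ b) (w : Fin b → F) (hw : w ≠ 0) :
    ∃ ψ : Fin b → F, ψ ≠ 0 ∧ ψ ⬝ᵥ w = 0 := by
  obtain ⟨j, hj⟩ : ∃ j, w j ≠ 0 := by
    by_contra hcon
    push Not at hcon
    exact hw (funext hcon)
  obtain ⟨k, hk⟩ : ∃ k : Fin b, k ≠ j := by
    by_cases h0 : j = ⟨0, by omega⟩
    · exact ⟨⟨1, by omega⟩, by rw [h0]; simp [Fin.ext_iff]⟩
    · exact ⟨⟨0, by omega⟩, fun h => h0 h.symm⟩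
  refine ⟨Pi.single j (w k) - Pi.single k (w j), ?_, ?_⟩
  · intro h
    have := congrFun h k
    simp [hk] at this
    exact hj this
  · rw [sub_dotProduct, single_dotProduct, single_dotProduct]
    ring

/-- `ctr ψ` is onto for `ψ ≠ 0`. -/
theorem tpmeet_ctr_surj (ψ : Fin b → F) (hψ : ψ ≠ 0) (u : Fin a → F) :
    ∃ v : Fin a × Fin b → F, ctr ψ v = u := by
  obtain ⟨j, hj⟩ : ∃ j, ψ j ≠ 0 := by
    by_contra hcon
    push Not at hcon
    exact hψ (funext hcon)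
  refine ⟨ten u (Pi.single j (ψ j)⁻¹), ?_⟩
  rw [ctr_ten, dotProduct_single, mul_inv_cancel₀ hj, one_smul]

/-- the action of `ELm 1 w ψ - 1`. -/
theorem tpmeet_ELm_sub_one_mulVec (w ψ : Fin b → F) (v : Fin a × Fin b → F) :
    (ELm (1 : Matrix (Fin a) (Fin a) F) w ψ - 1) *ᵥ v = ten (ctr ψ v) w := by
  rw [Matrix.sub_mulVec, ELm_mulVec, Matrix.one_mulVec, Matrix.one_mulVec, add_sub_cancel_left]

/-- the image of `ELm 1 w ψ - 1` is the `B`-line `A ⊗ w` (`ψ ≠ 0`). -/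
theorem tpmeet_range_ELm_sub_one (w ψ : Fin b → F) (hψ : ψ ≠ 0) :
    LinearMap.range (ELm (1 : Matrix (Fin a) (Fin a) F) w ψ - 1).mulVecLin = Bline w := by
  ext v
  constructor
  · rintro ⟨v', rfl⟩
    rw [Matrix.mulVecLin_apply, tpmeet_ELm_sub_one_mulVec]
    exact ⟨_, rfl⟩
  · rintro ⟨u, rfl⟩
    obtain ⟨v', hv'⟩ := tpmeet_ctr_surj (a := a) ψ hψ u
    exact ⟨v', by rw [Matrix.mulVecLin_apply, tpmeet_ELm_sub_one_mulVec, hv']⟩

theorem tpmeet_rank_ELm_sub_one (w ψ : Fin b → F) (hw : w ≠ 0) (hψ : ψ ≠ 0) :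
    (ELm (1 : Matrix (Fin a) (Fin a) F) w ψ - 1).rank = a := by
  rw [Matrix.rank, tpmeet_range_ELm_sub_one w ψ hψ, tpmeet_finrank_Bline w hw]

/-- `(ELm 1 w ψ - 1)² = 0` when `ψ · w = 0`. -/
theorem tpmeet_ELm_sub_one_sq (w ψ : Fin b → F) (h : ψ ⬝ᵥ w = 0) :
    (ELm (1 : Matrix (Fin a) (Fin a) F) w ψ - 1) * (ELm (1 : Matrix (Fin a) (Fin a) F) w ψ - 1) = 0 := by
  rw [Matrix.ext_iff_mulVec]
  intro v
  rw [← Matrix.mulVec_mulVec, tpmeet_ELm_sub_one_mulVec, tpmeet_ELm_sub_one_mulVec, ctr_ten, h,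
    zero_smul, tpmeet_ten_zero, Matrix.zero_mulVec]

/-- conjugation: `h t h⁻¹ - 1 = h (t - 1) h⁻¹`. -/
theorem tpmeet_conj_sub_one {ι : Type} [Fintype ι] [DecidableEq ι]
    (h t : Matrix.GeneralLinearGroup ι F) :
    ((h * t * h⁻¹ : Matrix.GeneralLinearGroup ι F) : Matrix ι ι F) - 1 =
      (h : Matrix ι ι F) * ((t : Matrix ι ι F) - 1) *
        ((h⁻¹ : Matrix.GeneralLinearGroup ι F) : Matrix ι ι F) := by
  rw [Units.val_mul, Units.val_mul, Matrix.mul_sub, Matrix.sub_mul, Matrix.mul_one,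
    ← Units.val_mul h h⁻¹, mul_inv_cancel, Units.val_one]

theorem tpmeet_conj_sq_zero {ι : Type} [Fintype ι] [DecidableEq ι]
    (h t : Matrix.GeneralLinearGroup ι F)
    (ht : ((t : Matrix ι ι F) - 1) * ((t : Matrix ι ι F) - 1) = 0) :
    (((h * t * h⁻¹ : Matrix.GeneralLinearGroup ι F) : Matrix ι ι F) - 1) *
      (((h * t * h⁻¹ : Matrix.GeneralLinearGroup ι F) : Matrix ι ι F) - 1) = 0 := by
  rw [tpmeet_conj_sub_one]
  have hh : ((h⁻¹ : Matrix.GeneralLinearGroup ι F) : Matrix ι ι F) * (h : Matrix ι ι F) = 1 := by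
    rw [← Units.val_mul, inv_mul_cancel, Units.val_one]
  calc (h : Matrix ι ι F) * ((t : Matrix ι ι F) - 1) *
        ((h⁻¹ : Matrix.GeneralLinearGroup ι F) : Matrix ι ι F) *
      ((h : Matrix ι ι F) * ((t : Matrix ι ι F) - 1) *
        ((h⁻¹ : Matrix.GeneralLinearGroup ι F) : Matrix ι ι F))
      = (h : Matrix ι ι F) * (((t : Matrix ι ι F) - 1) *
        (((h⁻¹ : Matrix.GeneralLinearGroup ι F) : Matrix ι ι F) * (h : Matrix ι ι F)) *
          ((t : Matrix ι ι F) - 1)) *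
        ((h⁻¹ : Matrix.GeneralLinearGroup ι F) : Matrix ι ι F) := by
        simp only [Matrix.mul_assoc]
    _ = 0 := by rw [hh, Matrix.mul_one, ht, Matrix.mul_zero, Matrix.zero_mul]

theorem tpmeet_conj_rank {ι : Type} [Fintype ι] [DecidableEq ι]
    (h t : Matrix.GeneralLinearGroup ι F) :
    (((h * t * h⁻¹ : Matrix.GeneralLinearGroup ι F) : Matrix ι ι F) - 1).rank =
      ((t : Matrix ι ι F) - 1).rank := by
  rw [tpmeet_conj_sub_one]
  have h1 : IsUnit (h : Matrix ι ι F).det := by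
    rw [← Matrix.isUnit_iff_isUnit_det]
    exact ⟨h, rfl⟩
  have h2 : IsUnit ((h⁻¹ : Matrix.GeneralLinearGroup ι F) : Matrix ι ι F).det := by
    rw [← Matrix.isUnit_iff_isUnit_det]
    exact ⟨h⁻¹, rfl⟩
  rw [Matrix.rank_mul_eq_left_of_isUnit_det _ _ h2, Matrix.rank_mul_eq_right_of_isUnit_det _ _ h1]

end Cfsg.Agent.Lib.helper7.TP
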