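import Cfsg.Agent.Lib.helper7.TP.Meet
import Cfsg.Agent.Lib.Helper11.TPFLAG
import Cfsg.Agent.Lib.Helper21.TPCLASS
import Cfsg.Agent.Lib.Helper18.TPSLGEN
import Cfsg.Agent.Lib.Helper20.TPPROPER
import Cfsg.Agent.Lib.Helper27.TPFINAL
import Cfsg.Agent.Lib.Helper28.Transport

/-! # Project TP: assembly.  `GL_a(F) ⊗ GL_b(F) ⊓ SL` is maximal in `SL_ab(F)`, `2 ≤ a < b`, not `a = 2 = |F|` (S5637) -/

set_option autoImplicit false

namespace Cfsg.Agent.Lib.helper7.TP

open Matrix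
open scoped Kronecker

variable {a b : ℕ} {F : Type*} [Field F]

/-- ASM: in the world `NT M`, `M ≤ K0`. -/
theorem nt_le [Fintype F] (p : ℕ) [Fact p.Prime] [CharP F p] (ha : 1 ≤ a) (hab : a < b) (hb : 3 ≤ b)
    (M : Subgroup (Matrix.GeneralLinearGroup (Fin a × Fin b) F)) (hTM : T0 a b F ≤ M)
    (hMS : M ≤ Cfsg.Geo.specialLinear (Fin a × Fin b) F) (hNT : NT M) : M ≤ K0 a b F := by
  intro g hg
  by_contra hgK
  -- a non-zero flag
  let w₀ : Fin b → F := Pi.single ⟨0, by omega⟩ 1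
  let ψ₀ : Fin b → F := Pi.single ⟨1, by omega⟩ 1
  have hw₀ : w₀ ≠ 0 := by
    intro h
    have := congrFun h ⟨0, by omega⟩
    simp [w₀] at this
  have hψ₀ : ψ₀ ≠ 0 := by
    intro h
    have := congrFun h ⟨1, by omega⟩
    simp [ψ₀] at this
  have h₀ : ψ₀ ⬝ᵥ w₀ = 0 := by
    simp only [ψ₀, w₀]
    rw [single_dotProduct, one_mul]
    simp [Pi.single_apply, Fin.ext_iff]
  obtain ⟨w', hw', hline⟩ := final_lin ha hab g w₀ ψ₀ hw₀ hψ₀ h₀
    (fun w u hw hv => meet_of_nt p ha hab hb M hTM hMS hNT g hg hgK w₀ ψ₀ hw₀ hψ₀ h₀ w hw u hv)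
  exact hgK (stab_of_nt ha hb M hTM hMS hNT w₀ w' hw₀ hw' g hg hline)

/-- maximality in the standard model. -/
theorem std_max [Fintype F] (ha : 2 ≤ a) (hab : a < b) (hex : ¬ (a = 2 ∧ Fintype.card F = 2)) :
    Cfsg.Geo.IsMaximalIn (Cfsg.Geo.specialLinear (Fin a × Fin b) F) (T0 a b F) := by
  have hb : 3 ≤ b := by omega
  obtain ⟨p, hp⟩ := CharP.exists F
  haveI : CharP F p := hp
  haveI : Fact p.Prime := ⟨(CharP.char_is_prime_or_zero F p).resolve_right
    (fun h0 => by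
      subst h0
      haveI : CharZero F := CharP.charP_to_charZero F
      exact not_finite F)⟩
  refine ⟨T0_lt_SL ha (by omega), ?_⟩
  intro M hTM hMS
  by_cases hNT : NT M
  · left
    refine le_antisymm ?_ hTM
    intro g hg
    exact Subgroup.mem_inf.mpr ⟨nt_le p (by omega) hab hb M hTM hMS hNT hg, hMS hg⟩
  · right
    refine le_antisymm hMS ?_
    unfold NT at hNT
    push Not at hNT
    obtain ⟨ζ, hζ, hns⟩ := hNT
    have hA : LamA M ζ := lamA_of_lamE hb M hTM ζ hζ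
    have hall := lamA_all ha hb hex M hTM ζ hA (by
      rintro ⟨c, hc⟩
      exact hns c hc)
    exact sl_le_of_lamA (by omega) (by omega) M hall

/-- transport of maximality along an injective homomorphism `φ` with `φ⁻¹ S = S'`. -/
theorem isMaximalIn_map {G G' : Type*} [Group G] [Group G'] (φ : G →* G')
    (hφ : Function.Injective φ) (H' S' : Subgroup G) (S : Subgroup G')
    (hS : ∀ g, g ∈ S' ↔ φ g ∈ S) (hSr : S ≤ φ.range)
    (hmax : Cfsg.Geo.IsMaximalIn S' (H' ⊓ S')) :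
    Cfsg.Geo.IsMaximalIn S (H'.map φ ⊓ S) := by
  obtain ⟨hlt, hmx⟩ := hmax
  have hmapS' : S'.map φ = S := by
    apply le_antisymm
    · rintro _ ⟨g, hg, rfl⟩
      exact (hS g).mp hg
    · intro x hx
      obtain ⟨g, rfl⟩ := hSr hx
      exact ⟨g, (hS g).mpr hx, rfl⟩
  have hinf : H'.map φ ⊓ S = (H' ⊓ S').map φ := by
    rw [← hmapS']
    exact (Subgroup.map_inf H' S' φ hφ).symm
  rw [hinf]
  refine ⟨?_, ?_⟩
  · rw [← hmapS']
    exact (Subgroup.map_lt_map_iff_of_injective hφ).mpr hlt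
  · intro M hHM hMS
    have hMr : M ≤ φ.range := hMS.trans hSr
    have hM : (M.comap φ).map φ = M := by
      rw [Subgroup.map_comap_eq, inf_eq_right.mpr hMr]
    rcases hmx (M.comap φ)
        (by
          rw [← Subgroup.map_le_iff_le_comap]
          exact hHM)
        (by
          intro g hg
          exact (hS g).mpr (hMS hg)) with h | h
    · left
      rw [← hM, h]
    · right
      rw [← hM, h, hmapS']

theorem s5637 [Fintype F] (n : ℕ) (n₁ n₂ : ℕ) (h1 : 2 ≤ n₁) (h12 : n₁ < n₂)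
    (hex : ¬ (n₁ = 2 ∧ Fintype.card F = 2)) (e : Fin n ≃ Fin n₁ × Fin n₂)
    (P : Matrix.GeneralLinearGroup (Fin n) F) :
    Cfsg.Geo.IsMaximalIn (Cfsg.Geo.specialLinear (Fin n) F)
      (Cfsg.Geo.tensorProductSubgroup n₁ n₂ e P ⊓ Cfsg.Geo.specialLinear (Fin n) F) := by
  rw [Cfsg.Agent.Lib.Helper28.Transport.tensor_eq_map]
  apply isMaximalIn_map (Cfsg.Agent.Lib.Helper28.Transport.tmap e.symm P)
    (Cfsg.Agent.Lib.Helper28.Transport.tmap_injective e.symm P)
    (Cfsg.Geo.kroneckerSubgroup n₁ n₂ F) (Cfsg.Geo.specialLinear (Fin n₁ × Fin n₂) F)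
    (Cfsg.Geo.specialLinear (Fin n) F)
    (fun g => Cfsg.Agent.Lib.Helper28.Transport.tmap_SL e.symm P g)
  · intro x _
    refine ⟨(Cfsg.Geo.glReindex e.symm).symm ((MulAut.conj P).symm x), ?_⟩
    change (MulAut.conj P) ((Cfsg.Geo.glReindex e.symm) ((Cfsg.Geo.glReindex e.symm).symm
      ((MulAut.conj P).symm x))) = x
    rw [MulEquiv.apply_symm_apply, MulEquiv.apply_symm_apply]
  · exact std_max h1 h12 hex

end Cfsg.Agent.Lib.helper7.TP
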