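import Mathlib
import Cfsg.Prelude.Def_GeometricClasses

/-!
# Project TP (S5637): the tensor product subgroup `GL_a(F) ⊗ GL_b(F)`, `2 ≤ a < b`, is maximal in `SL_ab(F)`

Standard model: `V = F^(Fin a × Fin b) = A ⊗ B`, `A = F^a`, `B = F^b`; the pure tensor `u ⊗ w` is
`ten u w = fun p => u p.1 * w p.2`.  `K0 = kroneckerSubgroup a b F` (all `α ⊗ₖ β`), `T0 = K0 ⊓ SL`.
Covectors are vectors used through the dot product.  See `PLAN.md` in this folder.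
-/

set_option autoImplicit false

namespace Cfsg.Agent.Lib.helper7.TP

open Matrix
open scoped Kronecker

variable {a b : ℕ} {F : Type*} [Field F]

/-- the pure tensor `u ⊗ w`. -/
def ten (u : Fin a → F) (w : Fin b → F) : Fin a × Fin b → F := fun p => u p.1 * w p.2

/-- the contraction `1 ⊗ ψ : A ⊗ B → A`. -/
def ctr (ψ : Fin b → F) (v : Fin a × Fin b → F) : Fin a → F := fun i => ∑ j, v (i, j) * ψ j

/-- the `B`-line `A ⊗ w`. -/
def Bline (w : Fin b → F) : Submodule F (Fin a × Fin b → F) where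
  carrier := {v | ∃ u : Fin a → F, v = ten u w}
  add_mem' := by
    rintro _ _ ⟨u, rfl⟩ ⟨u', rfl⟩
    exact ⟨u + u', by funext p; simp [ten, add_mul]⟩
  zero_mem' := ⟨0, by funext p; simp [ten]⟩
  smul_mem' := by
    rintro c _ ⟨u, rfl⟩
    exact ⟨c • u, by funext p; simp [ten, mul_assoc]⟩

theorem mem_Bline (w : Fin b → F) (v : Fin a × Fin b → F) :
    v ∈ Bline (a := a) w ↔ ∃ u : Fin a → F, v = ten u w := Iff.rfl

/-- the Kronecker subgroup `GL_a ⊗ GL_b`. -/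
abbrev K0 (a b : ℕ) (F : Type*) [Field F] : Subgroup (Matrix.GeneralLinearGroup (Fin a × Fin b) F) :=
  Cfsg.Geo.kroneckerSubgroup a b F

/-- `K0 ⊓ SL`. -/
abbrev T0 (a b : ℕ) (F : Type*) [Field F] : Subgroup (Matrix.GeneralLinearGroup (Fin a × Fin b) F) :=
  K0 a b F ⊓ Cfsg.Geo.specialLinear (Fin a × Fin b) F

/-- the matrix `1 + ζ ⊗ (w ψᵀ)`; it acts as `v ↦ v + (ζ (ctr ψ v)) ⊗ w`. -/
def ELm (ζ : Matrix (Fin a) (Fin a) F) (w ψ : Fin b → F) :
    Matrix (Fin a × Fin b) (Fin a × Fin b) F :=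
  1 + ζ ⊗ₖ Matrix.vecMulVec w ψ

/-- `ζ ∈ Λ` witnessed on SOME non-zero flag `(w, ψ)`, `ψ · w = 0`. -/
def LamE (M : Subgroup (Matrix.GeneralLinearGroup (Fin a × Fin b) F))
    (ζ : Matrix (Fin a) (Fin a) F) : Prop :=
  ∃ (w ψ : Fin b → F) (g : Matrix.GeneralLinearGroup (Fin a × Fin b) F),
    w ≠ 0 ∧ ψ ≠ 0 ∧ ψ ⬝ᵥ w = 0 ∧ (g : Matrix (Fin a × Fin b) (Fin a × Fin b) F) = ELm ζ w ψ ∧ g ∈ M

/-- `ζ ∈ Λ` on ALL flags. -/
def LamA (M : Subgroup (Matrix.GeneralLinearGroup (Fin a × Fin b) F))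
    (ζ : Matrix (Fin a) (Fin a) F) : Prop :=
  ∀ (w ψ : Fin b → F) (g : Matrix.GeneralLinearGroup (Fin a × Fin b) F),
    ψ ⬝ᵥ w = 0 → (g : Matrix (Fin a × Fin b) (Fin a × Fin b) F) = ELm ζ w ψ → g ∈ M

/-- "`Λ = F`": every `ζ ∈ Λ` is a scalar matrix. -/
def NT (M : Subgroup (Matrix.GeneralLinearGroup (Fin a × Fin b) F)) : Prop :=
  ∀ ζ : Matrix (Fin a) (Fin a) F, LamE M ζ → ∃ c : F, ζ = c • (1 : Matrix (Fin a) (Fin a) F)

/-! ## Basic API -/

theorem ctr_ten (ψ w : Fin b → F) (u : Fin a → F) : ctr ψ (ten u w) = (ψ ⬝ᵥ w) • u := by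
  funext i
  simp only [ctr, ten, Pi.smul_apply, smul_eq_mul, dotProduct]
  rw [Finset.sum_mul]
  apply Finset.sum_congr rfl
  intro j _
  ring

theorem ctr_add (ψ : Fin b → F) (v v' : Fin a × Fin b → F) :
    ctr ψ (v + v') = ctr ψ v + ctr ψ v' := by
  funext i
  simp [ctr, add_mul, Finset.sum_add_distrib]

theorem ctr_smul (ψ : Fin b → F) (c : F) (v : Fin a × Fin b → F) :
    ctr ψ (c • v) = c • ctr ψ v := by
  funext i
  simp [ctr, Finset.mul_sum, mul_assoc]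

theorem ten_add_left (u u' : Fin a → F) (w : Fin b → F) : ten (u + u') w = ten u w + ten u' w := by
  funext p; simp [ten, add_mul]

theorem ten_add_right (u : Fin a → F) (w w' : Fin b → F) : ten u (w + w') = ten u w + ten u w' := by
  funext p; simp [ten, mul_add]

theorem ten_smul_left (c : F) (u : Fin a → F) (w : Fin b → F) : ten (c • u) w = c • ten u w := by
  funext p; simp [ten, mul_assoc]

theorem ten_smul_right (c : F) (u : Fin a → F) (w : Fin b → F) : ten u (c • w) = c • ten u w := by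
  funext p; simp [ten]; ring

/-- `(α ⊗ β)(u ⊗ w) = αu ⊗ βw`. -/
theorem kron_mulVec_ten (α : Matrix (Fin a) (Fin a) F) (β : Matrix (Fin b) (Fin b) F)
    (u : Fin a → F) (w : Fin b → F) : (α ⊗ₖ β) *ᵥ ten u w = ten (α *ᵥ u) (β *ᵥ w) := by
  funext p
  simp only [Matrix.mulVec, dotProduct, ten, Matrix.kroneckerMap_apply, Fintype.sum_prod_type]
  rw [Finset.sum_mul_sum]
  apply Finset.sum_congr rfl
  intro i _
  apply Finset.sum_congr rfl
  intro j _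
  ring

/-- the action of `ζ ⊗ (w ψᵀ)`. -/
theorem kron_vecMulVec_mulVec (ζ : Matrix (Fin a) (Fin a) F) (w ψ : Fin b → F)
    (v : Fin a × Fin b → F) :
    (ζ ⊗ₖ Matrix.vecMulVec w ψ) *ᵥ v = ten (ζ *ᵥ ctr ψ v) w := by
  funext p
  simp only [Matrix.mulVec, dotProduct, ten, ctr, Matrix.kroneckerMap_apply, Matrix.vecMulVec_apply,
    Fintype.sum_prod_type]
  rw [Finset.sum_mul]
  apply Finset.sum_congr rfl
  intro i _
  rw [Finset.mul_sum, Finset.sum_mul]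
  apply Finset.sum_congr rfl
  intro j _
  ring

/-- the action of `ELm ζ w ψ`. -/
theorem ELm_mulVec (ζ : Matrix (Fin a) (Fin a) F) (w ψ : Fin b → F) (v : Fin a × Fin b → F) :
    ELm ζ w ψ *ᵥ v = v + ten (ζ *ᵥ ctr ψ v) w := by
  rw [ELm, Matrix.add_mulVec, Matrix.one_mulVec, kron_vecMulVec_mulVec]

/-- for `ψ · w = 0`, `ELm ζ w ψ * ELm ζ' w ψ = ELm (ζ + ζ') w ψ`; in particular `ELm (-ζ) w ψ` is the
inverse of `ELm ζ w ψ`. -/
theorem ELm_mul_ELm (ζ ζ' : Matrix (Fin a) (Fin a) F) (w ψ : Fin b → F) (h : ψ ⬝ᵥ w = 0) :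
    ELm ζ w ψ * ELm ζ' w ψ = ELm (ζ + ζ') w ψ := by
  rw [Matrix.ext_iff_mulVec]
  intro v
  rw [← Matrix.mulVec_mulVec, ELm_mulVec, ELm_mulVec, ELm_mulVec, ctr_add, ctr_ten, h, zero_smul,
    add_zero, Matrix.add_mulVec, ten_add_left]
  abel

theorem ELm_zero (w ψ : Fin b → F) : ELm (0 : Matrix (Fin a) (Fin a) F) w ψ = 1 := by
  simp [ELm]

/-- `ELm ζ w ψ` as an element of `GL`, for `ψ · w = 0`. -/
noncomputable def EL (ζ : Matrix (Fin a) (Fin a) F) (w ψ : Fin b → F) (h : ψ ⬝ᵥ w = 0) :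
    Matrix.GeneralLinearGroup (Fin a × Fin b) F :=
  ⟨ELm ζ w ψ, ELm (-ζ) w ψ,
    by rw [ELm_mul_ELm _ _ _ _ h, add_neg_cancel, ELm_zero],
    by rw [ELm_mul_ELm _ _ _ _ h, neg_add_cancel, ELm_zero]⟩

@[simp] theorem EL_coe (ζ : Matrix (Fin a) (Fin a) F) (w ψ : Fin b → F) (h : ψ ⬝ᵥ w = 0) :
    ((EL ζ w ψ h : Matrix.GeneralLinearGroup (Fin a × Fin b) F) :
      Matrix (Fin a × Fin b) (Fin a × Fin b) F) = ELm ζ w ψ := rfl

theorem LamA_iff (M : Subgroup (Matrix.GeneralLinearGroup (Fin a × Fin b) F))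
    (ζ : Matrix (Fin a) (Fin a) F) :
    LamA M ζ ↔ ∀ (w ψ : Fin b → F) (h : ψ ⬝ᵥ w = 0), EL ζ w ψ h ∈ M := by
  constructor
  · intro H w ψ h
    exact H w ψ _ h rfl
  · intro H w ψ g h hg
    have : g = EL ζ w ψ h := Units.ext hg
    rw [this]
    exact H w ψ h

/-- membership in `K0`. -/
theorem mem_K0 (g : Matrix.GeneralLinearGroup (Fin a × Fin b) F) :
    g ∈ K0 a b F ↔ ∃ (α : Matrix.GeneralLinearGroup (Fin a) F) (β : Matrix.GeneralLinearGroup (Fin b) F),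
      (g : Matrix (Fin a × Fin b) (Fin a × Fin b) F) =
        (α : Matrix (Fin a) (Fin a) F) ⊗ₖ (β : Matrix (Fin b) (Fin b) F) := Iff.rfl

end Cfsg.Agent.Lib.helper7.TP
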