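import Cfsg.Agent.Lib.helper7.TP.MeetB
import Cfsg.Agent.Lib.Helper21.TPC1

/-! # Project TP, piece MEET, part C: the core of `meet_of_nt` (PGRP, NS, STAB as hypotheses) -/

set_option autoImplicit false

namespace Cfsg.Agent.Lib.helper7.TP

open Matrix Module
open scoped Kronecker

variable {a b : ℕ} {F : Type*} [Field F]

/-- the action of `k x₀ k⁻¹ - 1`, `x₀` a `B`-transvection. -/
theorem tpmeet_conj_EL_move (k : Matrix.GeneralLinearGroup (Fin a × Fin b) F) (w₀ ψ₀ : Fin b → F)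
    (h₀ : ψ₀ ⬝ᵥ w₀ = 0) (z : Fin a × Fin b → F) :
    ((k * EL (1 : Matrix (Fin a) (Fin a) F) w₀ ψ₀ h₀ * k⁻¹ :
        Matrix.GeneralLinearGroup (Fin a × Fin b) F) :
      Matrix (Fin a × Fin b) (Fin a × Fin b) F) *ᵥ z - z =
    (k : Matrix (Fin a × Fin b) (Fin a × Fin b) F) *ᵥ
      ten (ctr ψ₀ (((k⁻¹ : Matrix.GeneralLinearGroup (Fin a × Fin b) F) :
        Matrix (Fin a × Fin b) (Fin a × Fin b) F) *ᵥ z)) w₀ := by
  have e := tpmeet_conj_sub_one k (EL (1 : Matrix (Fin a) (Fin a) F) w₀ ψ₀ h₀)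
  calc _ = (((k * EL (1 : Matrix (Fin a) (Fin a) F) w₀ ψ₀ h₀ * k⁻¹ :
        Matrix.GeneralLinearGroup (Fin a × Fin b) F) :
      Matrix (Fin a × Fin b) (Fin a × Fin b) F) - 1) *ᵥ z := by
        rw [Matrix.sub_mulVec, Matrix.one_mulVec]
    _ = _ := by
        rw [e, ← Matrix.mulVec_mulVec, ← Matrix.mulVec_mulVec, EL_coe, tpmeet_ELm_sub_one_mulVec]

/-- the image of `k x₀ k⁻¹ - 1` is `k (A ⊗ w₀)`. -/
theorem tpmeet_conj_EL_range (k : Matrix.GeneralLinearGroup (Fin a × Fin b) F) (w₀ ψ₀ : Fin b → F)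
    (h₀ : ψ₀ ⬝ᵥ w₀ = 0) (hψ₀ : ψ₀ ≠ 0) (v : Fin a × Fin b → F) :
    (∃ v' : Fin a × Fin b → F, v = (((k * EL (1 : Matrix (Fin a) (Fin a) F) w₀ ψ₀ h₀ * k⁻¹ :
        Matrix.GeneralLinearGroup (Fin a × Fin b) F) :
      Matrix (Fin a × Fin b) (Fin a × Fin b) F) - 1) *ᵥ v') ↔
    ∃ u₁ : Fin a → F, v = (k : Matrix (Fin a × Fin b) (Fin a × Fin b) F) *ᵥ ten u₁ w₀ := by
  constructor
  · rintro ⟨v', rfl⟩
    refine ⟨ctr ψ₀ (((k⁻¹ : Matrix.GeneralLinearGroup (Fin a × Fin b) F) :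
        Matrix (Fin a × Fin b) (Fin a × Fin b) F) *ᵥ v'), ?_⟩
    rw [Matrix.sub_mulVec, Matrix.one_mulVec, tpmeet_conj_EL_move]
  · rintro ⟨u₁, rfl⟩
    obtain ⟨v'', hv''⟩ := tpmeet_ctr_surj (a := a) ψ₀ hψ₀ u₁
    refine ⟨(k : Matrix (Fin a × Fin b) (Fin a × Fin b) F) *ᵥ v'', ?_⟩
    rw [Matrix.sub_mulVec, Matrix.one_mulVec, tpmeet_conj_EL_move, Matrix.mulVec_mulVec,
      ← Units.val_mul, inv_mul_cancel, Units.val_one, Matrix.one_mulVec, hv'']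

/-- a dimension count. -/
theorem tpmeet_le_sup_of_finrank {V : Type*} [AddCommGroup V] [Module F V] [FiniteDimensional F V]
    (L L' S : Submodule F V) (n : ℕ) (hL : finrank F L = n) (hL' : finrank F L' = n)
    (hS : finrank F S ≤ n) (hd : L ⊓ L' = ⊥) (hle : L' ≤ L ⊔ S) : S ≤ L ⊔ L' := by
  have h1 := Submodule.finrank_sup_add_finrank_inf_eq L L'
  have h2 := Submodule.finrank_sup_add_finrank_inf_eq L S
  rw [hd, finrank_bot, add_zero, hL, hL'] at h1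
  have h3 : L ⊔ L' ≤ L ⊔ S := sup_le le_sup_left hle
  have h4 : finrank F ↥(L ⊔ S) ≤ finrank F ↥(L ⊔ L') := by omega
  have h5 := Submodule.eq_of_le_of_finrank_le h3 h4
  rw [h5]
  exact le_sup_right

/-- two `B`-lines through independent vectors meet trivially. -/
theorem tpmeet_Bline_inf (w w' : Fin b → F) (hw : w ≠ 0) (hind : ¬ ∃ c : F, w' = c • w) :
    Bline (a := a) w ⊓ Bline w' = ⊥ := by
  rw [eq_bot_iff]
  rintro v ⟨⟨u, hu⟩, ⟨u', hu'⟩⟩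
  rw [Submodule.mem_bot]
  by_contra hv
  have hu0 : u ≠ 0 := by
    rintro rfl
    exact hv (by rw [hu, tpmeet_ten_zero])
  obtain ⟨i, hi⟩ : ∃ i, u i ≠ 0 := by
    by_contra hcon
    push Not at hcon
    exact hu0 (funext hcon)
  have key : ∀ j, u i * w j = u' i * w' j := fun j => by
    have := congrFun (hu.symm.trans hu') (i, j)
    simpa [ten] using this
  by_cases hu'i : u' i = 0
  · apply hw
    funext j
    have := key j
    rw [hu'i, zero_mul] at this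
    exact (mul_eq_zero.mp this).resolve_left hi
  · refine hind ⟨u i / u' i, ?_⟩
    funext j
    rw [Pi.smul_apply, smul_eq_mul, div_mul_eq_mul_div, eq_div_iff hu'i, key j, mul_comm]

/-- a non-zero covector killing two given vectors (`b ≥ 3`). -/
theorem tpmeet_exists_perp2 (hb : 3 ≤ b) (w w' : Fin b → F) :
    ∃ ψ : Fin b → F, ψ ≠ 0 ∧ ψ ⬝ᵥ w = 0 ∧ ψ ⬝ᵥ w' = 0 := by
  let f : (Fin b → F) →ₗ[F] (F × F) :=
    { toFun := fun ψ => (ψ ⬝ᵥ w, ψ ⬝ᵥ w')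
      map_add' := fun ψ ψ' => by simp [add_dotProduct]
      map_smul' := fun c ψ => by simp [smul_dotProduct] }
  have hlt : finrank F (F × F) < finrank F (Fin b → F) := by
    rw [Module.finrank_prod, Module.finrank_self, Module.finrank_fin_fun]
    omega
  have hker := LinearMap.ker_ne_bot_of_finrank_lt (f := f) hlt
  obtain ⟨ψ, hψ, hψ0⟩ := (Submodule.ne_bot_iff _).mp hker
  have h2 : f ψ = 0 := hψ
  refine ⟨ψ, hψ0, ?_, ?_⟩
  · exact congrArg Prod.fst h2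
  · exact congrArg Prod.snd h2

/-- MEET (F5), with the statements of PGRP, NS and STAB (for this `M`, `g`, `w₀`) as hypotheses. -/
theorem tpmeet_core [Fintype F] (p : ℕ) [Fact p.Prime] [CharP F p] (ha : 1 ≤ a) (hab : a < b)
    (hb : 3 ≤ b) (M : Subgroup (Matrix.GeneralLinearGroup (Fin a × Fin b) F)) (hTM : T0 a b F ≤ M)
    (g : Matrix.GeneralLinearGroup (Fin a × Fin b) F) (hg : g ∈ M) (hgK : g ∉ K0 a b F)
    (w₀ ψ₀ : Fin b → F) (hw₀ : w₀ ≠ 0) (hψ₀ : ψ₀ ≠ 0) (h₀ : ψ₀ ⬝ᵥ w₀ = 0)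
    (hPG : ∀ Q : Subgroup (Matrix.GeneralLinearGroup (Fin a × Fin b) F), Q ≤ M → IsPGroup p Q →
      ∀ (w ψ : Fin b → F), w ≠ 0 → ψ ≠ 0 → ∀ hψw : ψ ⬝ᵥ w = 0,
        EL (1 : Matrix (Fin a) (Fin a) F) w ψ hψw ∈ Q → Q ≤ K0 a b F)
    (hNS : ∀ ψ : Fin b → F, ψ ≠ 0 →
      (∀ u : Fin a → F,
        ctr ψ ((g : Matrix (Fin a × Fin b) (Fin a × Fin b) F) *ᵥ ten u w₀) = 0) →
      ∃ w₁ : Fin b → F, w₁ ≠ 0 ∧ ∀ u : Fin a → F, ∃ u' : Fin a → F,
        (g : Matrix (Fin a × Fin b) (Fin a × Fin b) F) *ᵥ ten u w₀ = ten u' w₁)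
    (hST : ∀ w₁ : Fin b → F, w₁ ≠ 0 →
      (∀ u : Fin a → F, ∃ u' : Fin a → F,
        (g : Matrix (Fin a × Fin b) (Fin a × Fin b) F) *ᵥ ten u w₀ = ten u' w₁) → g ∈ K0 a b F)
    (w : Fin b → F) (hw : w ≠ 0) (u : Fin a → F)
    (hv : ctr ψ₀ (((g⁻¹ : Matrix.GeneralLinearGroup (Fin a × Fin b) F) :
      Matrix (Fin a × Fin b) (Fin a × Fin b) F) *ᵥ ten u w) = 0) :
    ∃ u₀ : Fin a → F,
      ten u w = (g : Matrix (Fin a × Fin b) (Fin a × Fin b) F) *ᵥ ten u₀ w₀ := by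
  classical
  -- the two elements of order `p`
  obtain ⟨ψ, hψ, hψw⟩ := tpmeet_exists_perp (by omega : 2 ≤ b) w hw
  set x₀ : Matrix.GeneralLinearGroup (Fin a × Fin b) F :=
    EL (1 : Matrix (Fin a) (Fin a) F) w₀ ψ₀ h₀ with hx₀
  set x : Matrix.GeneralLinearGroup (Fin a × Fin b) F :=
    EL (1 : Matrix (Fin a) (Fin a) F) w ψ hψw with hx
  set y : Matrix.GeneralLinearGroup (Fin a × Fin b) F := g * x₀ * g⁻¹ with hy
  have hx₀M : x₀ ∈ M := hTM (tpmeet_EL_one_mem_T0 w₀ ψ₀ h₀)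
  have hxM : x ∈ M := hTM (tpmeet_EL_one_mem_T0 w ψ hψw)
  have hyM : y ∈ M := M.mul_mem (M.mul_mem hg hx₀M) (M.inv_mem hg)
  have hxp : x ^ p = 1 := tpmeet_EL_pow_char p 1 w ψ hψw
  have hyp : y ^ p = 1 := by
    rw [hy, conj_pow, hx₀, tpmeet_EL_pow_char p 1 w₀ ψ₀ h₀, mul_one, mul_inv_cancel]
  -- the vector `v = u ⊗ w` is fixed by `x` and `y`
  have hxv : (x : Matrix (Fin a × Fin b) (Fin a × Fin b) F) *ᵥ ten u w = ten u w := by
    rw [hx, EL_coe, ELm_mulVec, ctr_ten, hψw, zero_smul, Matrix.mulVec_zero, tpmeet_ten_zero,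
      add_zero]
  have hyv : (y : Matrix (Fin a × Fin b) (Fin a × Fin b) F) *ᵥ ten u w = ten u w := by
    have := tpmeet_conj_EL_move g w₀ ψ₀ h₀ (ten u w)
    rw [hv, tpmeet_ten_zero, Matrix.mulVec_zero, sub_eq_zero] at this
    exact this
  -- how `x` and `y` move vectors
  have hxmove : ∀ z : Fin a × Fin b → F,
      (x : Matrix (Fin a × Fin b) (Fin a × Fin b) F) *ᵥ z - z ∈ Bline (a := a) w := by
    intro z
    refine ⟨ctr ψ z, ?_⟩
    rw [hx, EL_coe, ELm_mulVec, Matrix.one_mulVec, add_sub_cancel_left]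
  set S : Submodule F (Fin a × Fin b → F) :=
    (Bline (a := a) w₀).map (g : Matrix (Fin a × Fin b) (Fin a × Fin b) F).mulVecLin with hS
  have hymove : ∀ z : Fin a × Fin b → F,
      (y : Matrix (Fin a × Fin b) (Fin a × Fin b) F) *ᵥ z - z ∈ S := by
    intro z
    rw [hy, hx₀, tpmeet_conj_EL_move]
    exact ⟨_, ⟨_, rfl⟩, rfl⟩
  -- Sylow
  obtain ⟨P, h, hP, hPD, hhD, hxP, htP⟩ := tpmeet_sylow p x y hxp hyp
  have hDM : Subgroup.closure {x, y} ≤ M := by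
    rw [Subgroup.closure_le]
    rintro z (rfl | hz)
    · exact hxM
    · rw [Set.mem_singleton_iff] at hz
      subst hz
      exact hyM
  have hPK : P ≤ K0 a b F :=
    hPG P (hPD.trans hDM) hP w ψ hw hψ hψw hxP
  have htK : h * y * h⁻¹ ∈ K0 a b F := hPK htP
  have ht_eq : h * y * h⁻¹ = (h * g) * x₀ * (h * g)⁻¹ := by
    rw [hy]
    group
  rw [ht_eq] at htK
  -- `C1`
  have hsq := tpmeet_conj_sq_zero (h * g) x₀
    (by rw [hx₀, EL_coe]; exact tpmeet_ELm_sub_one_sq w₀ ψ₀ h₀)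
  have hrk : (((h * g * x₀ * (h * g)⁻¹ : Matrix.GeneralLinearGroup (Fin a × Fin b) F) :
      Matrix (Fin a × Fin b) (Fin a × Fin b) F) - 1).rank = a := by
    rw [tpmeet_conj_rank, hx₀, EL_coe, tpmeet_rank_ELm_sub_one w₀ ψ₀ hw₀ hψ₀]
  obtain ⟨w', hw', hw'img⟩ := sqzero_kron ha hab _ htK hsq hrk
  have himg : ∀ v : Fin a × Fin b → F, v ∈ Bline (a := a) w' ↔
      ∃ u₁ : Fin a → F, v = (h : Matrix (Fin a × Fin b) (Fin a × Fin b) F) *ᵥ
        ((g : Matrix (Fin a × Fin b) (Fin a × Fin b) F) *ᵥ ten u₁ w₀) := by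
    intro v
    rw [← hw'img v, hx₀, tpmeet_conj_EL_range (h * g) w₀ ψ₀ h₀ hψ₀ v]
    simp only [Units.val_mul, Matrix.mulVec_mulVec]
  have hhinv : h⁻¹ ∈ Subgroup.closure {x, y} := Subgroup.inv_mem _ hhD
  by_cases hdep : ∃ c : F, w' = c • w
  · -- `w'` is a multiple of `w`
    obtain ⟨c, rfl⟩ := hdep
    have hc : c ≠ 0 := by
      rintro rfl
      exact hw' (zero_smul _ _)
    have hmem : ten u w ∈ Bline (a := a) (c • w) := by
      refine ⟨c⁻¹ • u, ?_⟩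
      rw [ten_smul_left, ten_smul_right, smul_smul, inv_mul_cancel₀ hc, one_smul]
    obtain ⟨u₁, hu₁⟩ := (himg _).mp hmem
    refine ⟨u₁, ?_⟩
    have hfix := tpmeet_closure_fix x y (ten u w) hxv hyv h⁻¹ hhinv
    rw [← hfix]
    conv_lhs => rw [hu₁]
    rw [Matrix.mulVec_mulVec, ← Units.val_mul, inv_mul_cancel, Units.val_one, Matrix.one_mulVec]
  · -- `w, w'` independent: contradiction
    exfalso
    have hmove := tpmeet_closure_move x y (Bline (a := a) w) S hxmove hymove h hhD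
    have hle : Bline (a := a) w' ≤ Bline (a := a) w ⊔ S := by
      intro l' hl'
      obtain ⟨u₁, rfl⟩ := (himg l').mp hl'
      have hsS : (g : Matrix (Fin a × Fin b) (Fin a × Fin b) F) *ᵥ ten u₁ w₀ ∈ S :=
        ⟨_, ⟨_, rfl⟩, rfl⟩
      have := Submodule.add_mem _
        (hmove ((g : Matrix (Fin a × Fin b) (Fin a × Fin b) F) *ᵥ ten u₁ w₀))
        (Submodule.mem_sup_right hsS)
      rwa [sub_add_cancel] at this
    have hSfin : finrank F S ≤ a :=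
      (Submodule.finrank_map_le _ _).trans (tpmeet_finrank_Bline (a := a) w₀ hw₀).le
    have hSle := tpmeet_le_sup_of_finrank (Bline (a := a) w) (Bline (a := a) w') S a
      (tpmeet_finrank_Bline w hw) (tpmeet_finrank_Bline w' hw') hSfin
      (tpmeet_Bline_inf w w' hw hdep) hle
    obtain ⟨ψ', hψ', hψ'w, hψ'w'⟩ := tpmeet_exists_perp2 hb w w'
    have hkill : ∀ u₁ : Fin a → F,
        ctr ψ' ((g : Matrix (Fin a × Fin b) (Fin a × Fin b) F) *ᵥ ten u₁ w₀) = 0 := by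
      intro u₁
      have hsS : (g : Matrix (Fin a × Fin b) (Fin a × Fin b) F) *ᵥ ten u₁ w₀ ∈ S :=
        ⟨_, ⟨_, rfl⟩, rfl⟩
      obtain ⟨l, ⟨u₂, rfl⟩, l', ⟨u₃, rfl⟩, hsum⟩ := Submodule.mem_sup.mp (hSle hsS)
      rw [← hsum, ctr_add, ctr_ten, ctr_ten, hψ'w, hψ'w', zero_smul, zero_smul, add_zero]
    obtain ⟨w₁, hw₁, hw₁img⟩ := hNS ψ' hψ' hkill
    exact hgK (hST w₁ hw₁ hw₁img)

end Cfsg.Agent.Lib.helper7.TP
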