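import Cfsg.Agent.Lib.helper7.TP.MeetA

/-! # Project TP, piece MEET, part B: group-theoretic tools (Sylow in `⟨x, y⟩`, closure invariants) -/

set_option autoImplicit false

namespace Cfsg.Agent.Lib.helper7.TP

open Matrix

/-- two elements of order dividing `p` of a finite group: a conjugate of the second one, under the
group they generate, lies with the first one in a common `p`-subgroup of that group. -/
theorem tpmeet_sylow {G : Type*} [Group G] [Finite G] (p : ℕ) [Fact p.Prime] (x y : G)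
    (hx : x ^ p = 1) (hy : y ^ p = 1) :
    ∃ (P : Subgroup G) (h : G), IsPGroup p P ∧ P ≤ Subgroup.closure {x, y} ∧
      h ∈ Subgroup.closure {x, y} ∧ x ∈ P ∧ h * y * h⁻¹ ∈ P := by
  classical
  set D : Subgroup G := Subgroup.closure {x, y} with hD
  have hxD : x ∈ D := Subgroup.subset_closure (by simp)
  have hyD : y ∈ D := Subgroup.subset_closure (by simp)
  let xD : D := ⟨x, hxD⟩
  let yD : D := ⟨y, hyD⟩
  have hpg : ∀ z : D, z ^ p = 1 → IsPGroup p (Subgroup.zpowers z) := by
    intro z hz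
    rintro ⟨t, ht⟩
    obtain ⟨k, rfl⟩ := Subgroup.mem_zpowers_iff.mp ht
    refine ⟨1, ?_⟩
    apply Subtype.ext
    simp only [pow_one, Subgroup.coe_pow, Subgroup.coe_one]
    rw [← zpow_natCast, ← _root_.zpow_mul, mul_comm, _root_.zpow_mul, zpow_natCast, hz, _root_.one_zpow]
  have hxp : xD ^ p = 1 := Subtype.ext (by simpa [xD] using hx)
  have hyp : yD ^ p = 1 := Subtype.ext (by simpa [yD] using hy)
  obtain ⟨P1, hP1⟩ := (hpg xD hxp).exists_le_sylow
  obtain ⟨P2, hP2⟩ := (hpg yD hyp).exists_le_sylow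
  obtain ⟨h, hh⟩ := MulAction.exists_smul_eq D P2 P1
  refine ⟨(P1 : Subgroup D).map D.subtype, (h : G), ?_, ?_, h.2, ?_, ?_⟩
  · exact P1.2.map D.subtype
  · rintro _ ⟨z, _, rfl⟩
    exact z.2
  · exact ⟨xD, hP1 (Subgroup.mem_zpowers xD), rfl⟩
  · refine ⟨h * yD * h⁻¹, ?_, rfl⟩
    have hy2 : yD ∈ (P2 : Subgroup D) := hP2 (Subgroup.mem_zpowers yD)
    have : h * yD * h⁻¹ ∈ ((h • P2 : Sylow p D) : Subgroup D) := by
      rw [Sylow.smul_def, Sylow.pointwise_smul_def]
      have := Subgroup.smul_mem_pointwise_smul yD (MulAut.conj h) (P2 : Subgroup D) hy2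
      rwa [MulAut.smul_def, MulAut.conj_apply] at this
    rwa [hh] at this

variable {ι : Type} [Fintype ι] [DecidableEq ι] {F : Type*} [Field F]

/-- every element of `⟨x, y⟩` fixes the common fixed vectors of `x` and `y`. -/
theorem tpmeet_closure_fix (x y : Matrix.GeneralLinearGroup ι F) (v : ι → F)
    (hxv : (x : Matrix ι ι F) *ᵥ v = v) (hyv : (y : Matrix ι ι F) *ᵥ v = v)
    (d : Matrix.GeneralLinearGroup ι F) (hd : d ∈ Subgroup.closure {x, y}) :
    (d : Matrix ι ι F) *ᵥ v = v := by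
  induction hd using Subgroup.closure_induction with
  | mem z hz =>
    rcases hz with rfl | hz
    · exact hxv
    · rw [Set.mem_singleton_iff] at hz
      subst hz
      exact hyv
  | one => simp
  | mul z z' _ _ hz hz' => rw [Units.val_mul, ← Matrix.mulVec_mulVec, hz', hz]
  | inv z _ hz =>
    have : ((z⁻¹ : Matrix.GeneralLinearGroup ι F) : Matrix ι ι F) *ᵥ ((z : Matrix ι ι F) *ᵥ v) = v := by
      rw [Matrix.mulVec_mulVec, ← Units.val_mul, inv_mul_cancel, Units.val_one, Matrix.one_mulVec]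
    rwa [hz] at this

/-- every element of `⟨x, y⟩` moves vectors inside `L + S`, when `x` moves inside `L` and `y` inside `S`. -/
theorem tpmeet_closure_move (x y : Matrix.GeneralLinearGroup ι F) (L S : Submodule F (ι → F))
    (hx : ∀ z : ι → F, (x : Matrix ι ι F) *ᵥ z - z ∈ L)
    (hy : ∀ z : ι → F, (y : Matrix ι ι F) *ᵥ z - z ∈ S)
    (d : Matrix.GeneralLinearGroup ι F) (hd : d ∈ Subgroup.closure {x, y}) :
    ∀ z : ι → F, (d : Matrix ι ι F) *ᵥ z - z ∈ L ⊔ S := by
  induction hd using Subgroup.closure_induction with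
  | mem t ht =>
    intro z
    rcases ht with rfl | ht
    · exact Submodule.mem_sup_left (hx z)
    · rw [Set.mem_singleton_iff] at ht
      subst ht
      exact Submodule.mem_sup_right (hy z)
  | one => intro z; simp
  | mul t t' _ _ ht ht' =>
    intro z
    have e : ((t * t' : Matrix.GeneralLinearGroup ι F) : Matrix ι ι F) *ᵥ z - z =
        ((t : Matrix ι ι F) *ᵥ ((t' : Matrix ι ι F) *ᵥ z) - (t' : Matrix ι ι F) *ᵥ z) +
          ((t' : Matrix ι ι F) *ᵥ z - z) := by
      rw [Units.val_mul, ← Matrix.mulVec_mulVec]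
      abel
    rw [e]
    exact Submodule.add_mem _ (ht _) (ht' _)
  | inv t _ ht =>
    intro z
    have e : ((t⁻¹ : Matrix.GeneralLinearGroup ι F) : Matrix ι ι F) *ᵥ z - z =
        -((t : Matrix ι ι F) *ᵥ (((t⁻¹ : Matrix.GeneralLinearGroup ι F) : Matrix ι ι F) *ᵥ z) -
          ((t⁻¹ : Matrix.GeneralLinearGroup ι F) : Matrix ι ι F) *ᵥ z) := by
      rw [Matrix.mulVec_mulVec, ← Units.val_mul, mul_inv_cancel, Units.val_one, Matrix.one_mulVec]
      abel
    rw [e]
    exact Submodule.neg_mem _ (ht _)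

end Cfsg.Agent.Lib.helper7.TP
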