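import Cfsg.Agent.Lib.helper7.TP.MeetC
import Cfsg.Agent.Lib.helper4.TPNS
import Cfsg.Agent.Lib.helper4.TPSTAB
import Cfsg.Agent.Lib.Helper27.TPPGRPcore

/-! # Project TP, piece MEET: `meet_of_nt` (from `tpmeet_core` and the landed pieces C1, NS, STAB, PGRP core) -/

set_option autoImplicit false

namespace Cfsg.Agent.Lib.helper7.TP

open Matrix
open scoped Kronecker

variable {a b : ℕ} {F : Type*} [Field F]

/-- PGRP (step C) from its core and the landed C1, STAB. -/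
theorem tpmeet_pgroup_le [Fintype F] (p : ℕ) [Fact p.Prime] [CharP F p] (ha : 1 ≤ a) (hab : a < b)
    (hb : 3 ≤ b) (M : Subgroup (Matrix.GeneralLinearGroup (Fin a × Fin b) F)) (hTM : T0 a b F ≤ M)
    (hMS : M ≤ Cfsg.Geo.specialLinear (Fin a × Fin b) F) (hNT : NT M)
    (Q : Subgroup (Matrix.GeneralLinearGroup (Fin a × Fin b) F)) (hQM : Q ≤ M) (hQ : IsPGroup p Q)
    (w ψ : Fin b → F) (hw : w ≠ 0) (hψ : ψ ≠ 0) (hψw : ψ ⬝ᵥ w = 0)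
    (hx : EL (1 : Matrix (Fin a) (Fin a) F) w ψ hψw ∈ Q) : Q ≤ K0 a b F :=
  tppgrp_core p ha hab hb M hTM hMS hNT
    (fun t ht hsq hrk => sqzero_kron ha hab t ht hsq hrk)
    (fun w w' hw hw' g hg h => stab_of_nt ha hb M hTM hMS hNT w w' hw hw' g hg h)
    Q hQM hQ w ψ hw hψ hψw hx

/-- MEET (F5): for `g ∈ M \ K0`, `S = g (A ⊗ w₀)`, `K = g (A ⊗ ker ψ₀)`: every `B`-line meets `K`
inside `S` (Sylow in `⟨x, y⟩`, `x ∈ R_L`, `y = g (1 ⊗ (1 + w₀ψ₀ᵀ)) g⁻¹`). -/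
theorem meet_of_nt [Fintype F] (p : ℕ) [Fact p.Prime] [CharP F p] (ha : 1 ≤ a) (hab : a < b)
    (hb : 3 ≤ b) (M : Subgroup (Matrix.GeneralLinearGroup (Fin a × Fin b) F)) (hTM : T0 a b F ≤ M)
    (hMS : M ≤ Cfsg.Geo.specialLinear (Fin a × Fin b) F) (hNT : NT M)
    (g : Matrix.GeneralLinearGroup (Fin a × Fin b) F) (hg : g ∈ M) (hgK : g ∉ K0 a b F)
    (w₀ ψ₀ : Fin b → F) (hw₀ : w₀ ≠ 0) (hψ₀ : ψ₀ ≠ 0) (h₀ : ψ₀ ⬝ᵥ w₀ = 0)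
    (w : Fin b → F) (hw : w ≠ 0) (u : Fin a → F)
    (hv : ctr ψ₀ (((g⁻¹ : Matrix.GeneralLinearGroup (Fin a × Fin b) F) :
      Matrix (Fin a × Fin b) (Fin a × Fin b) F) *ᵥ ten u w) = 0) :
    ∃ u₀ : Fin a → F,
      ten u w = (g : Matrix (Fin a × Fin b) (Fin a × Fin b) F) *ᵥ ten u₀ w₀ :=
  tpmeet_core p ha hab hb M hTM g hg hgK w₀ ψ₀ hw₀ hψ₀ h₀
    (fun Q hQM hQ w ψ hw hψ hψw hx =>
      tpmeet_pgroup_le p ha hab hb M hTM hMS hNT Q hQM hQ w ψ hw hψ hψw hx)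
    (fun ψ hψ h => ns_of_nt ha hb M hTM hNT g hg w₀ ψ hw₀ hψ h)
    (fun w₁ hw₁ h => stab_of_nt ha hb M hTM hMS hNT w₀ w₁ hw₀ hw₁ g hg h)
    w hw u hv

end Cfsg.Agent.Lib.helper7.TP
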